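import Mathlib
import Cfsg.Prelude.Def_OddOrderLocal
import Cfsg.Prelude.Def_CaseTheorems

set_option autoImplicit false

namespace Cfsg.Agent.Lib.Helper70.Meta

/-- The only consequence of "sectional 2-rank at most 2" that is used: if `N ≤ H` contains all
squares of `H` then `|H : N| ≤ 4`. It passes to quotients. -/
def R2 (S : Type*) [Group S] : Prop :=
  ∀ H N : Subgroup S, N ≤ H → (∀ h ∈ H, h * h ∈ N) → N.relIndex H ≤ 4

/-- Class two with derived subgroup inside `{1, c}`. -/
def C2 {S : Type*} [Group S] (c : S) : Prop :=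
  c ∈ Subgroup.center S ∧ c ≠ 1 ∧ c * c = 1 ∧ ∀ x y : S, x * y = y * x ∨ x * y = c * (y * x)

end Cfsg.Agent.Lib.Helper70.Meta
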