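import Mathlib
import Cfsg.Agent.Lib.Helper70.Meta.Defs
import Cfsg.Agent.Lib.Helper77.SectRank
import Cfsg.Agent.Lib.Helper3.PGroup
import Cfsg.Agent.Lib.Helper3.Frattini
import Cfsg.Agent.Lib.Helper70.Rank2
import Cfsg.Agent.S3738

set_option autoImplicit false

/-! A 2-group of sectional rank at most 2 is metacyclic (Blackburn). -/

namespace Cfsg.Agent.Lib.Helper70.Meta

open scoped commutatorElement

theorem R2_of_sectional {S : Type*} [Group S] [Finite S] (hr : Cfsg.SectionalPRankLE 2 2 S) :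
    R2 S := by
  intro H N hNH hsq
  have h1 := Cfsg.Agent.Lib.Helper77.card_le_of_sectionalRank hr H N hNH
    (fun h hh => by rw [pow_two]; exact hsq h hh)
  have h2 := Subgroup.relIndex_mul_relIndex ⊥ N H bot_le hNH
  rw [Subgroup.relIndex_bot_left, Subgroup.relIndex_bot_left] at h2
  have h3 : 0 < Nat.card N := Nat.card_pos
  rw [← h2] at h1
  have h4 : Nat.card N * N.relIndex H ≤ Nat.card N * 4 := by
    calc Nat.card N * N.relIndex H ≤ 2 ^ 2 * Nat.card N := h1
      _ = Nat.card N * 4 := by ring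
  exact Nat.le_of_mul_le_mul_left h4 h3

theorem R2_quot {S : Type*} [Group S] [Finite S] (h : R2 S) (M : Subgroup S) [M.Normal] :
    R2 (S ⧸ M) := by
  intro H N hNH hsq
  have h1 := h (H.comap (QuotientGroup.mk' M)) (N.comap (QuotientGroup.mk' M))
    (Subgroup.comap_mono hNH) (by
      intro x hx
      rw [Subgroup.mem_comap] at hx ⊢
      rw [map_mul]
      exact hsq _ hx)
  rw [Subgroup.relIndex_comap, Subgroup.map_comap_eq_self_of_surjective
    (QuotientGroup.mk'_surjective M)] at h1
  exact h1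

theorem meta_of_gen {S : Type*} [Group S] (x y : S) (hgen : Subgroup.closure {x, y} = ⊤)
    (hn : (Subgroup.zpowers x).Normal) : Cfsg.IsMetacyclic S := by
  refine ⟨Subgroup.zpowers x, hn, inferInstance, ?_⟩
  refine ⟨⟨(QuotientGroup.mk y : S ⧸ Subgroup.zpowers x), ?_⟩⟩
  intro q
  induction q using QuotientGroup.induction_on with
  | H g =>
    have hg : g ∈ Subgroup.closure {x, y} := by rw [hgen]; trivial
    have key : Subgroup.closure {x, y} ≤
        (Subgroup.zpowers (QuotientGroup.mk y : S ⧸ Subgroup.zpowers x)).comap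
          (QuotientGroup.mk' (Subgroup.zpowers x)) := by
      rw [Subgroup.closure_le]
      intro w hw
      rcases hw with rfl | rfl
      · rw [SetLike.mem_coe, Subgroup.mem_comap]
        have : QuotientGroup.mk' (Subgroup.zpowers w) w = 1 := by
          rw [QuotientGroup.mk'_apply, QuotientGroup.eq_one_iff]
          exact Subgroup.mem_zpowers w
        rw [this]
        exact one_mem _
      · exact Subgroup.mem_zpowers _
    exact key hg

theorem gen_ext {S : Type*} [Group S] [Finite S] (hS : IsPGroup 2 S) (h : R2 S) (x : S)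
    (hx : x ∉ frattini S) : ∃ y, Subgroup.closure {x, y} = ⊤ := by
  have : Fact (Nat.Prime 2) := ⟨Nat.prime_two⟩
  have h4 : (frattini S).relIndex ⊤ ≤ 4 := h ⊤ (frattini S) le_top (by
    intro g _
    have := Cfsg.Agent.Lib.Helper3.pow_p_mem_frattini hS g
    rwa [pow_two] at this)
  rw [Subgroup.relIndex_top_right] at h4
  have hcard := (frattini S).card_mul_index
  have hpos : 0 < Nat.card (frattini S) := Nat.card_pos
  have hlt1 : frattini S < Subgroup.closure {x} ⊔ frattini S := by
    refine lt_of_le_of_ne le_sup_right ?_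
    intro heq
    apply hx
    rw [heq]
    exact (le_sup_left : Subgroup.closure {x} ≤ _) (Subgroup.subset_closure rfl)
  by_cases hT : Subgroup.closure {x} ⊔ frattini S = ⊤
  · refine ⟨x, ?_⟩
    rw [Set.pair_eq_singleton]
    exact frattini_nongenerating hT
  · obtain ⟨y, hy⟩ : ∃ y, y ∉ Subgroup.closure {x} ⊔ frattini S := by
      by_contra hcon
      push Not at hcon
      exact hT (eq_top_iff.2 fun g _ => hcon g)
    refine ⟨y, frattini_nongenerating ?_⟩
    have hlt2 : Subgroup.closure {x} ⊔ frattini S < Subgroup.closure {x, y} ⊔ frattini S := by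
      refine lt_of_le_of_ne (sup_le_sup_right (Subgroup.closure_mono (by simp)) _) ?_
      intro heq
      apply hy
      rw [heq]
      exact (le_sup_left : Subgroup.closure {x, y} ≤ _) (Subgroup.subset_closure (by simp))
    have e1 := Cfsg.Agent.Lib.Helper77.two_mul_card_le_of_lt hlt1
    have e2 := Cfsg.Agent.Lib.Helper77.two_mul_card_le_of_lt hlt2
    apply Subgroup.eq_top_of_card_eq
    have e3 : Nat.card (Subgroup.closure {x, y} ⊔ frattini S : Subgroup S) ≤ Nat.card S :=
      Subgroup.card_le_card_group _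
    have e4 : Nat.card S ≤ Nat.card (frattini S) * 4 := by
      rw [← hcard]
      exact Nat.mul_le_mul_left _ h4
    omega

theorem meta_of_comm {S : Type*} [Group S] [Finite S] (hS : IsPGroup 2 S) (h : R2 S)
    (hc : ∀ a b : S, a * b = b * a) : Cfsg.IsMetacyclic S := by
  have hnorm : ∀ x : S, (Subgroup.zpowers x).Normal := by
    intro x
    constructor
    intro n hn g
    rw [hc g n, mul_assoc, mul_inv_cancel, mul_one]
    exact hn
  by_cases hx : ∃ x : S, x ∉ frattini S
  · obtain ⟨x, hx⟩ := hx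
    obtain ⟨y, hy⟩ := gen_ext hS h x hx
    exact meta_of_gen x y hy (hnorm x)
  · push Not at hx
    have htop : frattini S = ⊤ := eq_top_iff.2 fun g _ => hx g
    have hbot : (⊥ : Subgroup S) = ⊤ := frattini_nongenerating (by rw [htop]; simp)
    refine meta_of_gen 1 1 ?_ (hnorm 1)
    rw [← hbot]
    simp

theorem sq_central {S : Type*} [Group S] {c : S} (hc : C2 c) (y : S) :
    y * y ∈ Subgroup.center S := by
  obtain ⟨hcZ, -, hc2, hcomm⟩ := hc
  rw [Subgroup.mem_center_iff] at hcZ ⊢
  intro g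
  rcases hcomm g y with h | h
  · calc g * (y * y) = (g * y) * y := (mul_assoc _ _ _).symm
      _ = (y * g) * y := by rw [h]
      _ = y * (g * y) := mul_assoc _ _ _
      _ = y * (y * g) := by rw [h]
      _ = y * y * g := (mul_assoc _ _ _).symm
  · calc g * (y * y) = (g * y) * y := (mul_assoc _ _ _).symm
      _ = (c * (y * g)) * y := by rw [h]
      _ = c * (y * (g * y)) := by group
      _ = c * (y * (c * (y * g))) := by rw [h]
      _ = c * ((y * c) * (y * g)) := by group
      _ = c * ((c * y) * (y * g)) := by rw [hcZ y]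
      _ = (c * c) * (y * y * g) := by group
      _ = y * y * g := by rw [hc2, one_mul]

theorem frattini_le_center {S : Type*} [Group S] [Finite S] {c : S} (hc : C2 c) :
    frattini S ≤ Subgroup.center S := by
  apply Cfsg.Agent.Lib.Helper3.frattini_le_of_elementary_quotient Nat.prime_two
  · rw [commutator_def, Subgroup.commutator_le]
    intro a _ b _
    rw [commutatorElement_def]
    rcases hc.2.2.2 a b with h | h
    · rw [h]
      have : b * a * a⁻¹ * b⁻¹ = 1 := by group
      rw [this]
      exact one_mem _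
    · rw [h]
      have : c * (b * a) * a⁻¹ * b⁻¹ = c := by group
      rw [this]
      exact hc.1
  · intro x
    rw [pow_two]
    exact sq_central hc x

theorem meta_of_mem_zpowers {S : Type*} [Group S] [Finite S] (hS : IsPGroup 2 S) (h : R2 S) (c : S)
    (hc : C2 c) (x : S) (hx : x ∉ Subgroup.center S) (hcx : c ∈ Subgroup.zpowers x) :
    Cfsg.IsMetacyclic S := by
  have hn : (Subgroup.zpowers x).Normal := by
    constructor
    intro n hn g
    obtain ⟨k, rfl⟩ := Subgroup.mem_zpowers_iff.1 hn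
    have h1 : g * x ^ k * g⁻¹ = (g * x * g⁻¹) ^ k := (conj_zpow).symm
    rw [h1]
    apply Subgroup.zpow_mem
    rcases hc.2.2.2 g x with h | h
    · rw [h]
      have : x * g * g⁻¹ = x := by group
      rw [this]
      exact Subgroup.mem_zpowers x
    · rw [h]
      have : c * (x * g) * g⁻¹ = c * x := by group
      rw [this]
      exact mul_mem hcx (Subgroup.mem_zpowers x)
  obtain ⟨y, hy⟩ := gen_ext hS h x (fun hxf => hx (frattini_le_center hc hxf))
  exact meta_of_gen x y hy hn

theorem meta_of_invol {S : Type*} [Group S] [Finite S] (hS : IsPGroup 2 S) (h : R2 S) (c : S)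
    (hc : C2 c) (t : S) (ht : t ∉ Subgroup.center S) (ht2 : t * t = 1) :
    Cfsg.IsMetacyclic S := by
  obtain ⟨y, hy⟩ := gen_ext hS h t (fun hxf => ht (frattini_le_center hc hxf))
  have hty : t * y ≠ y * t := by
    intro hcom
    apply ht
    rw [Subgroup.mem_center_iff]
    intro g
    have hle : Subgroup.closure {t, y} ≤ Subgroup.centralizer {t} := by
      rw [Subgroup.closure_le]
      intro w hw
      rw [SetLike.mem_coe, Subgroup.mem_centralizer_iff]
      intro v hv
      rw [Set.mem_singleton_iff] at hv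
      subst hv
      rcases hw with rfl | rfl
      · rfl
      · exact hcom
    have hg : g ∈ Subgroup.closure {t, y} := by rw [hy]; trivial
    exact (Subgroup.mem_centralizer_iff.1 (hle hg) t rfl).symm
  have hty' : t * y = c * (y * t) := (hc.2.2.2 t y).resolve_left hty
  have hyZ : y ∉ Subgroup.center S := fun hyZ => hty (Subgroup.mem_center_iff.1 hyZ t)
  by_cases hy2 : y * y = 1
  · apply meta_of_mem_zpowers hS h c hc (t * y)
    · intro hZ
      apply hty
      have := Subgroup.mem_center_iff.1 hZ t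
      have h3 : t * y = y * t := by
        have h4 : t * (t * (t * y)) = t * (t * y * t) := by rw [this]
        calc t * y = (t * t) * (t * y) := by rw [ht2, one_mul]
          _ = t * (t * (t * y)) := by group
          _ = t * (t * y * t) := h4
          _ = (t * t) * (y * t) := by group
          _ = y * t := by rw [ht2, one_mul]
      exact h3
    · have : c = (t * y) ^ (2 : ℤ) := by
        have e : (t * y) ^ (2 : ℤ) = (t * y) * (t * y) := by
          rw [show (2 : ℤ) = ((2 : ℕ) : ℤ) from rfl, zpow_natCast, pow_two]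
        rw [e]
        calc c = c * (y * (t * t) * y) := by rw [ht2, mul_one, hy2, mul_one]
          _ = (c * (y * t)) * (t * y) := by group
          _ = (t * y) * (t * y) := by rw [← hty']
      rw [this]
      exact Subgroup.zpow_mem _ (Subgroup.mem_zpowers _) _
  · obtain ⟨k, hk⟩ := hS (y * y)
    obtain ⟨j, hj1, hj2⟩ := Cfsg.Agent.Lib.Helper70.Rank2.exists_invol_pow k (y * y) hk hy2
    obtain ⟨w, hw⟩ : ∃ w, w = (y * y) ^ j := ⟨_, rfl⟩
    rw [← hw] at hj1 hj2
    have hwZ : w ∈ Subgroup.center S := by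
      rw [hw]; exact Subgroup.pow_mem _ (sq_central hc y) j
    have hwy : w ∈ Subgroup.zpowers y := by
      rw [hw]
      exact Subgroup.pow_mem _ (mul_mem (Subgroup.mem_zpowers y) (Subgroup.mem_zpowers y)) j
    by_cases hwc : w = c
    · exact meta_of_mem_zpowers hS h c hc y hyZ (hwc ▸ hwy)
    · exfalso
      have hcZ := hc.1
      have hcomm : ∀ a ∈ ({c, w, t} : Set S), ∀ b ∈ ({c, w, t} : Set S), a * b = b * a := by
        intro a ha b hb
        rcases ha with rfl | rfl | rfl
        · exact (Subgroup.mem_center_iff.1 hcZ b).symm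
        · exact (Subgroup.mem_center_iff.1 hwZ b).symm
        · rcases hb with rfl | rfl | rfl
          · exact Subgroup.mem_center_iff.1 hcZ _
          · exact Subgroup.mem_center_iff.1 hwZ _
          · rfl
      have hinv : ∀ a ∈ ({c, w, t} : Set S), a * a = 1 := by
        intro a ha
        rcases ha with rfl | rfl | rfl
        · exact hc.2.2.1
        · exact hj2
        · exact ht2
      obtain ⟨-, hel⟩ := Cfsg.Agent.S3738.closure_invol _ hcomm hinv
      have h4 := h (Subgroup.closure {c, w, t}) ⊥ bot_le (by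
        intro a ha
        rw [Subgroup.mem_bot]
        exact hel a ha)
      rw [Subgroup.relIndex_bot_left] at h4
      have hcH : c ∈ Subgroup.closure ({c, w, t} : Set S) := Subgroup.subset_closure (by simp)
      have hwH : w ∈ Subgroup.closure ({c, w, t} : Set S) := Subgroup.subset_closure (by simp)
      have htH : t ∈ Subgroup.closure ({c, w, t} : Set S) := Subgroup.subset_closure (by simp)
      classical
      have hsub : (({1, c, w, t, t * c} : Finset S) : Set S) ⊆
          (Subgroup.closure ({c, w, t} : Set S) : Set S) := by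
        intro a ha
        simp only [Finset.coe_insert, Finset.coe_singleton, Set.mem_insert_iff,
          Set.mem_singleton_iff] at ha
        rcases ha with rfl | rfl | rfl | rfl | rfl
        · exact one_mem _
        · exact hcH
        · exact hwH
        · exact htH
        · exact mul_mem htH hcH
      have h1c : (1 : S) ≠ c := fun e => hc.2.1 e.symm
      have h1w : (1 : S) ≠ w := fun e => hj1 e.symm
      have h1t : (1 : S) ≠ t := fun e => ht (e ▸ one_mem _)
      have hct : c ≠ t := fun e => ht (e ▸ hcZ)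
      have hwt : w ≠ t := fun e => ht (e ▸ hwZ)
      have hcw : c ≠ w := fun e => hwc e.symm
      have aux : ∀ v ∈ Subgroup.center S, v ≠ t * c := by
        intro v hv e
        apply ht
        have : t = v * c⁻¹ := by rw [e]; group
        rw [this]
        exact mul_mem hv (inv_mem hcZ)
      have h1tc := aux 1 (one_mem _)
      have hctc := aux c hcZ
      have hwtc := aux w hwZ
      have httc : t ≠ t * c := by
        intro e
        apply hc.2.1
        have : t * c = t * 1 := by rw [mul_one]; exact e.symm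
        exact mul_left_cancel this
      have hcard5 : ({1, c, w, t, t * c} : Finset S).card = 5 := by
        have m1 : (1 : S) ∉ ({c, w, t, t * c} : Finset S) := by
          simp only [Finset.mem_insert, Finset.mem_singleton, not_or]
          exact ⟨h1c, h1w, h1t, h1tc⟩
        have m2 : c ∉ ({w, t, t * c} : Finset S) := by
          simp only [Finset.mem_insert, Finset.mem_singleton, not_or]
          exact ⟨hcw, hct, hctc⟩
        have m3 : w ∉ ({t, t * c} : Finset S) := by
          simp only [Finset.mem_insert, Finset.mem_singleton, not_or]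
          exact ⟨hwt, hwtc⟩
        have m4 : t ∉ ({t * c} : Finset S) := by
          simp only [Finset.mem_singleton]
          exact httc
        rw [Finset.card_insert_of_notMem m1, Finset.card_insert_of_notMem m2,
          Finset.card_insert_of_notMem m3, Finset.card_insert_of_notMem m4, Finset.card_singleton]
      have h5 := Set.ncard_le_ncard hsub (Set.toFinite _)
      rw [Set.ncard_coe_finset, hcard5] at h5
      have h6 : Nat.card (Subgroup.closure ({c, w, t} : Set S)) =
          ((Subgroup.closure ({c, w, t} : Set S) : Subgroup S) : Set S).ncard := rfl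
      omega

open scoped IsMulCommutative in
theorem exists_sq {S : Type*} [Group S] [Finite S] (hS : IsPGroup 2 S) (h : R2 S) (c : S)
    (hc : C2 c) (hna : ¬ ∀ a b : S, a * b = b * a) :
    ∃ u : S, u ∉ Subgroup.center S ∧ (u * u = 1 ∨ c ∈ Subgroup.zpowers u) := by
  classical
  obtain ⟨hcZ, hc1, hc2, hcomm⟩ := id hc
  have hA : IsPGroup 2 (Subgroup.center S) := hS.to_subgroup _
  obtain ⟨c', hc'⟩ : ∃ c' : Subgroup.center S, c' = ⟨c, hcZ⟩ := ⟨_, rfl⟩
  obtain ⟨Z2, hZ2def⟩ : ∃ Z2 : Subgroup (Subgroup.center S),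
      Z2 = (powMonoidHom 2 : Subgroup.center S →* Subgroup.center S).range := ⟨_, rfl⟩
  have hZ2 : ∀ v : Subgroup.center S, v ∈ Z2 ↔ ∃ w : Subgroup.center S, w ^ 2 = v := by
    intro v
    rw [hZ2def, MonoidHom.mem_range]
    rfl
  have hidx : Z2.index ≤ 4 := by
    have h1 := h (Subgroup.center S) (Z2.map (Subgroup.center S).subtype)
      (Subgroup.map_subtype_le _) (by
        intro a ha
        refine ⟨(⟨a, ha⟩ : Subgroup.center S) ^ 2, (hZ2 _).2 ⟨_, rfl⟩, ?_⟩
        simp [pow_two])
    rw [Subgroup.relIndex, Subgroup.subgroupOf,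
      Subgroup.comap_map_eq_self_of_injective (Subgroup.subtype_injective _)] at h1
    exact h1
  obtain ⟨z0, hz0c, hz0max⟩ : ∃ z0 : Subgroup.center S, c' ∈ Subgroup.zpowers z0 ∧
      ∀ z : Subgroup.center S, c' ∈ Subgroup.zpowers z → orderOf z ≤ orderOf z0 := by
    obtain ⟨z0, h1, h2⟩ := Set.exists_max_image
      {z : Subgroup.center S | c' ∈ Subgroup.zpowers z} orderOf (Set.toFinite _)
      ⟨c', Subgroup.mem_zpowers c'⟩
    exact ⟨z0, h1, h2⟩
  have hc'1 : c' ≠ 1 := by
    intro e
    apply hc1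
    rw [hc'] at e
    exact congrArg Subtype.val e
  have hz0 : z0 ∉ Z2 := by
    intro hz
    obtain ⟨w, hw⟩ := (hZ2 z0).1 hz
    have h1 : c' ∈ Subgroup.zpowers w :=
      (Subgroup.zpowers_le.2 (hw ▸ Subgroup.pow_mem _ (Subgroup.mem_zpowers w) 2)) hz0c
    have h2 := hz0max w h1
    have hw1 : w ≠ 1 := by
      rintro rfl
      rw [Subgroup.zpowers_one_eq_bot, Subgroup.mem_bot] at h1
      exact hc'1 h1
    obtain ⟨k, hk⟩ := (IsPGroup.iff_orderOf.1 hA) w
    have hk0 : k ≠ 0 := by
      rintro rfl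
      rw [pow_zero, orderOf_eq_one_iff] at hk
      exact hw1 hk
    obtain ⟨k', rfl⟩ := Nat.exists_eq_succ_of_ne_zero hk0
    rw [← hw, orderOf_pow' w two_ne_zero, hk,
      Nat.gcd_eq_right (dvd_pow_self 2 (Nat.succ_ne_zero _))] at h2
    have : 2 ^ (k' + 1) / 2 < 2 ^ (k' + 1) := Nat.div_lt_self (by positivity) (by norm_num)
    have e : k'.succ = k' + 1 := rfl
    rw [e] at h2
    omega
  obtain ⟨Z3, hZ3def⟩ : ∃ Z3 : Subgroup (Subgroup.center S), Z3 = Z2 ⊔ Subgroup.zpowers z0 :=
    ⟨_, rfl⟩
  have hZ23 : Z2 ≤ Z3 := by rw [hZ3def]; exact le_sup_left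
  have hz03 : z0 ∈ Z3 := by
    rw [hZ3def]; exact (le_sup_right : Subgroup.zpowers z0 ≤ _) (Subgroup.mem_zpowers z0)
  have hc3 : c' ∈ Z3 := by
    rw [hZ3def]; exact (le_sup_right : Subgroup.zpowers z0 ≤ _) hz0c
  have hidx3 : Z3.index ≤ 2 := by
    have h1 := Subgroup.relIndex_mul_index hZ23
    have h2 : Z2.relIndex Z3 ≠ 1 := by
      intro e
      rw [Subgroup.relIndex_eq_one] at e
      exact hz0 (e hz03)
    have h3 : Z2.relIndex Z3 ≠ 0 := Subgroup.index_ne_zero_of_finite
    have h4 : 2 ≤ Z2.relIndex Z3 := by omega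
    have h5 : 2 * Z3.index ≤ Z2.relIndex Z3 * Z3.index := Nat.mul_le_mul_right _ h4
    omega
  have hform : ∀ v ∈ Z3, ∃ w : Subgroup.center S, v = w ^ 2 ∨ v = z0 * w ^ 2 := by
    intro v hv
    rw [hZ3def, Subgroup.mem_sup] at hv
    obtain ⟨a, ha, b, hb, rfl⟩ := hv
    obtain ⟨w1, rfl⟩ := (hZ2 a).1 ha
    obtain ⟨k, rfl⟩ := Subgroup.mem_zpowers_iff.1 hb
    rcases Int.even_or_odd' k with ⟨m, rfl | rfl⟩
    · refine ⟨w1 * z0 ^ m, Or.inl ?_⟩
      rw [mul_pow, ← zpow_natCast (z0 ^ m) 2, ← zpow_mul, mul_comm m]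
      rfl
    · refine ⟨w1 * z0 ^ m, Or.inr ?_⟩
      rw [mul_pow, ← zpow_natCast (z0 ^ m) 2, ← zpow_mul, mul_comm m, zpow_add, zpow_one]
      have : ((2 : ℕ) : ℤ) = 2 := rfl
      rw [this]
      rw [mul_comm (z0 ^ (2 * m)) z0, mul_left_comm]
  -- the key step
  have key : ∀ u : S, u ∉ Subgroup.center S → ∀ hu : u * u ∈ Subgroup.center S,
      (⟨u * u, hu⟩ : Subgroup.center S) ∈ Z3 →
      ∃ u : S, u ∉ Subgroup.center S ∧ (u * u = 1 ∨ c ∈ Subgroup.zpowers u) := by
    intro u hu huu h3
    obtain ⟨w, hw⟩ := hform _ h3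
    have hwc : ∀ g : S, g * (w : S)⁻¹ = (w : S)⁻¹ * g := fun g =>
      Subgroup.mem_center_iff.1 (inv_mem w.2) g
    have hsq : (u * (w : S)⁻¹) * (u * (w : S)⁻¹) = u * u * ((w : S) ^ 2)⁻¹ := by
      calc (u * (w : S)⁻¹) * (u * (w : S)⁻¹) = u * ((w : S)⁻¹ * u) * (w : S)⁻¹ := by group
        _ = u * (u * (w : S)⁻¹) * (w : S)⁻¹ := by rw [hwc u]
        _ = u * u * ((w : S) ^ 2)⁻¹ := by group
    refine ⟨u * (w : S)⁻¹, ?_, ?_⟩
    · intro hmem
      apply hu
      have : u = u * (w : S)⁻¹ * w := by group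
      rw [this]
      exact mul_mem hmem w.2
    · rcases hw with hw | hw
      · left
        have hw' : u * u = (w : S) ^ 2 := congrArg Subtype.val hw
        rw [hsq, hw', mul_inv_cancel]
      · right
        have hw' : u * u = (z0 : S) * (w : S) ^ 2 := congrArg Subtype.val hw
        have hz : (u * (w : S)⁻¹) * (u * (w : S)⁻¹) = (z0 : S) := by
          rw [hsq, hw', mul_assoc, mul_inv_cancel, mul_one]
        obtain ⟨k, hk⟩ := Subgroup.mem_zpowers_iff.1 hz0c
        have hk' : (z0 : S) ^ k = c := by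
          have := congrArg Subtype.val hk
          rw [hc'] at this
          simpa using this
        rw [← hk', ← hz]
        exact Subgroup.zpow_mem _ (mul_mem (Subgroup.mem_zpowers _) (Subgroup.mem_zpowers _)) _
  push Not at hna
  obtain ⟨x, y, hxy⟩ := hna
  have hxy' : x * y = c * (y * x) := (hcomm x y).resolve_left hxy
  have hxZ : x ∉ Subgroup.center S := fun hx => hxy (Subgroup.mem_center_iff.1 hx y).symm
  have hyZ : y ∉ Subgroup.center S := fun hy => hxy (Subgroup.mem_center_iff.1 hy x)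
  have hxyZ : x * y ∉ Subgroup.center S := by
    intro hz
    apply hxy
    have := Subgroup.mem_center_iff.1 hz x
    -- x * (x * y) = x * y * x
    have h2 : x * (x * y) = x * (y * x) := by rw [this]; group
    exact mul_left_cancel h2
  by_cases hX : (⟨x * x, sq_central hc x⟩ : Subgroup.center S) ∈ Z3
  · exact key x hxZ _ hX
  by_cases hY : (⟨y * y, sq_central hc y⟩ : Subgroup.center S) ∈ Z3
  · exact key y hyZ _ hY
  apply key (x * y) hxyZ (sq_central hc (x * y))
  have hidx2 : Z3.index = 2 := by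
    have h1 : Z3.index ≠ 0 := Subgroup.index_ne_zero_of_finite
    have h2 : Z3.index ≠ 1 := by
      intro e
      rw [Subgroup.index_eq_one] at e
      apply hX
      rw [e]
      trivial
    omega
  have hXY := (Subgroup.mul_mem_iff_of_index_two hidx2
    (a := (⟨x * x, sq_central hc x⟩ : Subgroup.center S))
    (b := (⟨y * y, sq_central hc y⟩ : Subgroup.center S))).2 (by tauto)
  have e : (⟨x * y * (x * y), sq_central hc (x * y)⟩ : Subgroup.center S) =
      c' * ((⟨x * x, sq_central hc x⟩ : Subgroup.center S) * ⟨y * y, sq_central hc y⟩) := by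
    apply Subtype.ext
    rw [hc']
    change x * y * (x * y) = c * (x * x * (y * y))
    have hyx : y * x = c * (x * y) := by
      rw [hxy', ← mul_assoc, hc2, one_mul]
    calc x * y * (x * y) = x * (y * x) * y := by group
      _ = x * (c * (x * y)) * y := by rw [hyx]
      _ = (x * c) * (x * y * y) := by group
      _ = (c * x) * (x * y * y) := by rw [Subgroup.mem_center_iff.1 hcZ x]
      _ = c * (x * x * (y * y)) := by group
  rw [e]
  exact mul_mem hc3 hXY

/-- Structure of a central extension of a metacyclic group. -/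
theorem lift_meta {S : Type*} [Group S] (c : S)
    [(Subgroup.zpowers c).Normal] (hq : Cfsg.IsMetacyclic (S ⧸ Subgroup.zpowers c)) :
    ∃ (A : Subgroup S) (a b : S), A.Normal ∧ a ∈ A ∧ c ∈ A ∧
      (∀ g ∈ A, ∃ i : ℤ, ∃ z ∈ Subgroup.zpowers c, g = a ^ i * z) ∧
      (∀ g : S, ∃ k : ℤ, ∃ α ∈ A, g = b ^ k * α) := by
  obtain ⟨Abar, hAn, hAc, hQc⟩ := hq
  obtain ⟨⟨abar, habar⟩⟩ := hAc
  obtain ⟨a, ha⟩ := QuotientGroup.mk'_surjective (Subgroup.zpowers c) (abar : S ⧸ Subgroup.zpowers c)
  obtain ⟨⟨bb, hbb⟩⟩ := hQc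
  obtain ⟨b1, hb1⟩ := QuotientGroup.mk'_surjective Abar bb
  obtain ⟨b, hb⟩ := QuotientGroup.mk'_surjective (Subgroup.zpowers c) b1
  refine ⟨Abar.comap (QuotientGroup.mk' (Subgroup.zpowers c)), a, b, inferInstance, ?_, ?_, ?_, ?_⟩
  · rw [Subgroup.mem_comap, ha]
    exact abar.2
  · rw [Subgroup.mem_comap]
    have : QuotientGroup.mk' (Subgroup.zpowers c) c = 1 := by
      rw [QuotientGroup.mk'_apply, QuotientGroup.eq_one_iff]
      exact Subgroup.mem_zpowers c
    rw [this]
    exact one_mem _
  · intro g hg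
    rw [Subgroup.mem_comap] at hg
    obtain ⟨i, hi⟩ := Subgroup.mem_zpowers_iff.1 (habar ⟨_, hg⟩)
    have hi' : (abar : S ⧸ Subgroup.zpowers c) ^ i = QuotientGroup.mk' (Subgroup.zpowers c) g := by
      have := congrArg Subtype.val hi
      simpa using this
    rw [← ha, ← map_zpow, QuotientGroup.mk'_apply, QuotientGroup.mk'_apply, QuotientGroup.eq] at hi'
    exact ⟨i, _, hi', by group⟩
  · intro g
    obtain ⟨k, hk⟩ := Subgroup.mem_zpowers_iff.1
      (hbb (QuotientGroup.mk' Abar (QuotientGroup.mk' (Subgroup.zpowers c) g)))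
    rw [← hb1, ← hb, ← map_zpow, ← map_zpow, QuotientGroup.mk'_apply Abar,
      QuotientGroup.mk'_apply Abar, QuotientGroup.eq, ← map_inv, ← map_mul] at hk
    exact ⟨k, _, hk, by group⟩

theorem eq_one_of_odd_zpow {S : Type*} [Group S] (hS : IsPGroup 2 S) (x : S) (m : ℤ)
    (hx : x ^ (2 * m + 1) = 1) : x = 1 := by
  obtain ⟨e, he⟩ := hS x
  have h1 : orderOf x ∣ 2 ^ e := orderOf_dvd_of_pow_eq_one he
  have h2 : (orderOf x : ℤ) ∣ 2 * m + 1 := orderOf_dvd_iff_zpow_eq_one.2 hx
  obtain ⟨j, -, hj⟩ := (Nat.dvd_prime_pow Nat.prime_two).1 h1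
  rcases Nat.eq_zero_or_pos j with rfl | hjpos
  · rw [pow_zero, orderOf_eq_one_iff] at hj
    exact hj
  · exfalso
    have h3 : (2 : ℤ) ∣ (orderOf x : ℤ) := by
      rw [hj]
      push_cast
      exact dvd_pow_self 2 (by omega)
    have h4 := h3.trans h2
    omega

theorem reduce {S : Type*} [Group S] [Finite S] (hS : IsPGroup 2 S) (c : S)
    (hc : c ∈ Subgroup.center S) (hc1 : c ≠ 1) (hc2 : c * c = 1) (hcS : c ∈ commutator S)
    [(Subgroup.zpowers c).Normal] (hq : Cfsg.IsMetacyclic (S ⧸ Subgroup.zpowers c)) :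
    Cfsg.IsMetacyclic S ∨ C2 c := by
  obtain ⟨A, a, b, hAn, haA, hcA, hF1, hF2⟩ := lift_meta c hq
  have hzc : ∀ z ∈ Subgroup.zpowers c, z ∈ Subgroup.center S :=
    fun z hz => (Subgroup.zpowers_le.2 hc) hz
  have hzz : ∀ z ∈ Subgroup.zpowers c, z * z = 1 := by
    intro z hz
    obtain ⟨n, rfl⟩ := Subgroup.mem_zpowers_iff.1 hz
    rw [← (Commute.refl c).mul_zpow, hc2, one_zpow]
  have hAab : ∀ x ∈ A, ∀ y ∈ A, x * y = y * x := by
    intro x hx y hy
    obtain ⟨i, z, hz, rfl⟩ := hF1 x hx
    obtain ⟨j, w, hw, rfl⟩ := hF1 y hy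
    have c1 : Commute (a ^ i) (a ^ j) := (Commute.refl a).zpow_zpow i j
    have c2 : Commute (a ^ i) w := Subgroup.mem_center_iff.1 (hzc w hw) (a ^ i)
    have c3 : Commute z (a ^ j) := (Subgroup.mem_center_iff.1 (hzc z hz) (a ^ j)).symm
    have c4 : Commute z w := Subgroup.mem_center_iff.1 (hzc w hw) z
    exact (c1.mul_right c2).mul_left (c3.mul_right c4)
  by_cases hca : c ∈ Subgroup.zpowers a
  · left
    have hAa : ∀ g ∈ A, g ∈ Subgroup.zpowers a := by
      intro g hg
      obtain ⟨i, z, hz, rfl⟩ := hF1 g hg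
      exact mul_mem (Subgroup.zpow_mem _ (Subgroup.mem_zpowers a) i) ((Subgroup.zpowers_le.2 hca) hz)
    apply meta_of_gen a b
    · rw [eq_top_iff]
      intro g _
      obtain ⟨k, α, hα, rfl⟩ := hF2 g
      exact mul_mem (Subgroup.zpow_mem _ (Subgroup.subset_closure (by simp)) k)
        ((Subgroup.zpowers_le.2 (Subgroup.subset_closure (by simp))) (hAa α hα))
    · constructor
      intro n hn g
      exact hAa _ (hAn.conj_mem n ((Subgroup.zpowers_le.2 haA) hn) g)
  · right
    let φ : A →* S :=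
      { toFun := fun x => (x : S) * (b * (x : S)⁻¹ * b⁻¹)
        map_one' := by simp
        map_mul' := by
          intro x y
          have hX : b * (x : S)⁻¹ * b⁻¹ ∈ A := hAn.conj_mem _ (inv_mem x.2) b
          have hY : b * (y : S)⁻¹ * b⁻¹ ∈ A := hAn.conj_mem _ (inv_mem y.2) b
          change ((x : S) * (y : S)) * (b * ((x : S) * (y : S))⁻¹ * b⁻¹) =
            ((x : S) * (b * (x : S)⁻¹ * b⁻¹)) * ((y : S) * (b * (y : S)⁻¹ * b⁻¹))
          calc ((x : S) * (y : S)) * (b * ((x : S) * (y : S))⁻¹ * b⁻¹)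
              = (x : S) * (((y : S) * (b * (y : S)⁻¹ * b⁻¹)) * (b * (x : S)⁻¹ * b⁻¹)) := by group
            _ = (x : S) * ((b * (x : S)⁻¹ * b⁻¹) * ((y : S) * (b * (y : S)⁻¹ * b⁻¹))) := by
                rw [hAab _ (mul_mem y.2 hY) _ hX]
            _ = _ := by group }
    have hφ : ∀ x : A, φ x = (x : S) * (b * (x : S)⁻¹ * b⁻¹) := fun _ => rfl
    obtain ⟨d, hd⟩ : ∃ d, d = φ ⟨a, haA⟩ := ⟨_, rfl⟩
    have hdA : d ∈ A := by
      rw [hd, hφ]
      exact mul_mem haA (hAn.conj_mem _ (inv_mem haA) b)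
    have hφD : ∀ x : A, φ x ∈ Subgroup.zpowers d := by
      intro x
      obtain ⟨i, z, hz, hx⟩ := hF1 x x.2
      have hzA : z ∈ A := (Subgroup.zpowers_le.2 hcA) hz
      have hx' : x = (⟨a, haA⟩ : A) ^ i * ⟨z, hzA⟩ := Subtype.ext (by simpa using hx)
      have hz1 : φ ⟨z, hzA⟩ = 1 := by
        rw [hφ]
        change z * (b * z⁻¹ * b⁻¹) = 1
        rw [Subgroup.mem_center_iff.1 (inv_mem (hzc z hz)) b]
        group
      rw [hx', map_mul, map_zpow, hz1, mul_one, ← hd]
      exact Subgroup.zpow_mem _ (Subgroup.mem_zpowers d) i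
    have hconj : ∀ g : S, g * b = b * g → ∀ x : A, g * φ x * g⁻¹ ∈ Subgroup.zpowers d := by
      intro g hgb x
      have e1 : g⁻¹ * b * g = b := by rw [mul_assoc, ← hgb]; group
      have e2 : g⁻¹ * b⁻¹ = b⁻¹ * g⁻¹ := by rw [← mul_inv_rev, ← mul_inv_rev, hgb]
      have e3 : g * φ x * g⁻¹ = φ ⟨g * x * g⁻¹, hAn.conj_mem _ x.2 g⟩ := by
        rw [hφ, hφ]
        change g * ((x : S) * (b * (x : S)⁻¹ * b⁻¹)) * g⁻¹ =
          (g * x * g⁻¹) * (b * (g * x * g⁻¹)⁻¹ * b⁻¹)
        symm
        calc (g * x * g⁻¹) * (b * (g * x * g⁻¹)⁻¹ * b⁻¹)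
            = g * x * (g⁻¹ * b * g) * (x : S)⁻¹ * (g⁻¹ * b⁻¹) := by group
          _ = g * x * b * (x : S)⁻¹ * (b⁻¹ * g⁻¹) := by rw [e1, e2]
          _ = _ := by group
      rw [e3]
      exact hφD _
    have hDn : (Subgroup.zpowers d).Normal := by
      constructor
      intro n hn g
      obtain ⟨m, rfl⟩ := Subgroup.mem_zpowers_iff.1 hn
      obtain ⟨k, α, hα, rfl⟩ := hF2 g
      have hdm : d ^ m = φ ((⟨a, haA⟩ : A) ^ m) := by rw [map_zpow, ← hd]
      have hdmA : d ^ m ∈ A := Subgroup.zpow_mem _ hdA m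
      have e : b ^ k * α * d ^ m * (b ^ k * α)⁻¹ = b ^ k * d ^ m * (b ^ k)⁻¹ := by
        calc b ^ k * α * d ^ m * (b ^ k * α)⁻¹ = b ^ k * (α * d ^ m) * α⁻¹ * (b ^ k)⁻¹ := by group
          _ = b ^ k * (d ^ m * α) * α⁻¹ * (b ^ k)⁻¹ := by rw [hAab α hα _ hdmA]
          _ = _ := by group
      rw [e, hdm]
      exact hconj (b ^ k) ((Commute.refl b).zpow_left k) _
    have hαb : ∀ α ∈ A, Commute (QuotientGroup.mk' (Subgroup.zpowers d) α)
        (QuotientGroup.mk' (Subgroup.zpowers d) b) := by
      intro α hα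
      change _ * _ = _ * _
      rw [← map_mul, ← map_mul, QuotientGroup.mk'_apply, QuotientGroup.mk'_apply,
        QuotientGroup.eq_iff_div_mem]
      have : α * b / (b * α) = φ ⟨α, hα⟩ := by
        rw [hφ]
        change α * b / (b * α) = α * (b * α⁻¹ * b⁻¹)
        rw [div_eq_mul_inv]
        group
      rw [this]
      exact hφD _
    have hαα : ∀ α ∈ A, ∀ β ∈ A, Commute (QuotientGroup.mk' (Subgroup.zpowers d) α)
        (QuotientGroup.mk' (Subgroup.zpowers d) β) := by
      intro α hα β hβ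
      change _ * _ = _ * _
      rw [← map_mul, ← map_mul, hAab α hα β hβ]
    have hcomm : ∀ g g' : S, Commute (QuotientGroup.mk' (Subgroup.zpowers d) g)
        (QuotientGroup.mk' (Subgroup.zpowers d) g') := by
      intro g g'
      obtain ⟨k, α, hα, rfl⟩ := hF2 g
      obtain ⟨k', α', hα', rfl⟩ := hF2 g'
      rw [map_mul, map_mul, map_zpow, map_zpow]
      exact (((Commute.refl _).zpow_zpow k k').mul_right ((hαb α' hα').symm.zpow_left k)).mul_left
        (((hαb α hα).zpow_right k').mul_right (hαα α hα α' hα'))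
    have hS'D : commutator S ≤ Subgroup.zpowers d := by
      rw [commutator_def, Subgroup.commutator_le]
      intro x _ y _
      rw [← QuotientGroup.eq_one_iff, ← QuotientGroup.mk'_apply, map_commutatorElement,
        commutatorElement_eq_one_iff_commute]
      exact hcomm x y
    obtain ⟨k, hk⟩ := Subgroup.mem_zpowers_iff.1 (hS'D hcS)
    have hdd : d * d ∈ Subgroup.zpowers a := by
      obtain ⟨i, z, hz, hdz⟩ := hF1 d hdA
      have e : d * d = a ^ i * a ^ i := by
        rw [hdz]
        calc a ^ i * z * (a ^ i * z) = a ^ i * (z * a ^ i) * z := by group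
          _ = a ^ i * (a ^ i * z) * z := by rw [Subgroup.mem_center_iff.1 (hzc z hz) (a ^ i)]
          _ = a ^ i * a ^ i * (z * z) := by group
          _ = a ^ i * a ^ i := by rw [hzz z hz, mul_one]
      rw [e]
      exact mul_mem (Subgroup.zpow_mem _ (Subgroup.mem_zpowers a) i)
        (Subgroup.zpow_mem _ (Subgroup.mem_zpowers a) i)
    have hdc : d = c := by
      rcases Int.even_or_odd' k with ⟨m, rfl | rfl⟩
      · exfalso
        apply hca
        rw [← hk, zpow_mul, zpow_two]
        exact Subgroup.zpow_mem _ hdd m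
      · have hd2 : d * d = 1 := by
          apply eq_one_of_odd_zpow hS _ m
          rw [(Commute.refl d).mul_zpow, hk, hc2]
        rw [← hk, zpow_add, zpow_mul, zpow_two, hd2, one_zpow, one_mul, zpow_one]
    refine ⟨hc, hc1, hc2, fun x y => ?_⟩
    have hmem : ⁅x, y⁆ ∈ Subgroup.zpowers c := hdc ▸ hS'D
      (Subgroup.commutator_mem_commutator (Subgroup.mem_top x) (Subgroup.mem_top y))
    obtain ⟨n, hn⟩ := Subgroup.mem_zpowers_iff.1 hmem
    have hxy : x * y = ⁅x, y⁆ * (y * x) := by rw [commutatorElement_def]; group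
    rcases Int.even_or_odd' n with ⟨m, rfl | rfl⟩
    · left
      rw [zpow_mul, zpow_two, hc2, one_zpow] at hn
      rw [hxy, ← hn, one_mul]
    · right
      rw [zpow_add, zpow_mul, zpow_two, hc2, one_zpow, one_mul, zpow_one] at hn
      rw [hxy, ← hn]

theorem main (n : ℕ) : ∀ (S : Type*) [Group S] [Finite S], Nat.card S = n → IsPGroup 2 S → R2 S →
    Cfsg.IsMetacyclic S := by
  induction n using Nat.strong_induction_on with
  | _ n ih =>
    intro S _ _ hn hS h
    by_cases hcomm : ∀ a b : S, a * b = b * a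
    · exact meta_of_comm hS h hcomm
    have : Fact (Nat.Prime 2) := ⟨Nat.prime_two⟩
    have hS' : commutator S ≠ ⊥ := by
      intro hbot
      apply hcomm
      intro a b
      have h1 : ⁅a, b⁆ ∈ commutator S :=
        Subgroup.commutator_mem_commutator (Subgroup.mem_top a) (Subgroup.mem_top b)
      rw [hbot, Subgroup.mem_bot, commutatorElement_eq_one_iff_mul_comm] at h1
      exact h1
    have h1 := Cfsg.Agent.Lib.Helper3.normal_inf_center_ne_bot' hS (commutator S) hS'
    obtain ⟨z, hz⟩ := Subgroup.ne_bot_iff_exists_ne_one.1 h1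
    have hz1 : (z : S) ≠ 1 := fun h => hz (Subtype.ext h)
    obtain ⟨k, hk⟩ := hS (z : S)
    obtain ⟨j, hj1, hj2⟩ := Cfsg.Agent.Lib.Helper70.Rank2.exists_invol_pow k (z : S) hk hz1
    obtain ⟨c, hcdef⟩ : ∃ c : S, c = (z : S) ^ j := ⟨_, rfl⟩
    rw [← hcdef] at hj1 hj2
    have hcmem : c ∈ commutator S ⊓ Subgroup.center S := by
      rw [hcdef]
      exact Subgroup.pow_mem _ z.2 j
    have hcS : c ∈ commutator S := hcmem.1
    have hcZ : c ∈ Subgroup.center S := hcmem.2
    have hnorm : (Subgroup.zpowers c).Normal := by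
      constructor
      intro x hx g
      have hxZ : x ∈ Subgroup.center S := (Subgroup.zpowers_le.2 hcZ) hx
      have : g * x * g⁻¹ = x := by
        rw [Subgroup.mem_center_iff.1 hxZ g]
        group
      rw [this]
      exact hx
    have hcard2 : Nat.card (Subgroup.zpowers c) = 2 := by
      rw [Nat.card_zpowers]
      exact orderOf_eq_prime (by rw [pow_two]; exact hj2) hj1
    have hlt : Nat.card (S ⧸ Subgroup.zpowers c) < n := by
      have h2 := (Subgroup.zpowers c).card_mul_index
      rw [hcard2, hn] at h2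
      have h3 : Nat.card (S ⧸ Subgroup.zpowers c) = (Subgroup.zpowers c).index := rfl
      have h4 : 0 < (Subgroup.zpowers c).index := Nat.pos_of_ne_zero Subgroup.index_ne_zero_of_finite
      omega
    have hq := ih _ hlt (S ⧸ Subgroup.zpowers c) rfl (hS.to_quotient _) (R2_quot h _)
    rcases reduce hS c hcZ hj1 hj2 hcS hq with hdone | hC2
    · exact hdone
    obtain ⟨u, hu, hu2 | hu2⟩ := exists_sq hS h c hC2 hcomm
    · exact meta_of_invol hS h c hC2 u hu hu2
    · exact meta_of_mem_zpowers hS h c hC2 u hu hu2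

end Cfsg.Agent.Lib.Helper70.Meta
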